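import Cfsg.Agent.H745.TF.Stmts2
import Cfsg.Agent.H802.TE.Defs

/-!
# S5262, ESS: the essential subgroups of a saturated system over the Sylow 2-subgroup of `²F₄(q)` are `QA`, `QB`

Exact statements. `Γ` is `Aut_F(R)`; only the structure `Ess` is used. Paper proofs: `outputs/live/tools/plans/S5262_ess.md`.
-/

set_option autoImplicit false
set_option linter.dupNamespace false

namespace Cfsg.Agent.H784.TF

open Cfsg Cfsg.FusionSystem Cfsg.Agent.H756.PU Cfsg.Agent.H745.TF Cfsg.Agent.H802.TE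

universe u v

/-! ### Engine -/

/-- `{x ∈ R | x² ∈ N, [x, R] ≤ N}` -/
def nx {Ω : Type*} [Group Ω] (R N : Subgroup Ω) : Subgroup Ω :=
  Subgroup.closure {x | x ∈ R ∧ x ^ 2 ∈ N ∧ ∀ r ∈ R, x * r * x⁻¹ * r⁻¹ ∈ N}

/-- the subgroup `C_R(M)` -/
def cz {Ω : Type*} [Group Ω] (R M : Subgroup Ω) : Subgroup Ω := R ⊓ Subgroup.centralizer (M : Set Ω)

/-- (NX) invariance of `nx`, of centralizers and of commutator subgroups -/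
def StNx : Prop :=
  ∀ {Ω : Type u} [Group Ω] {S E : Subgroup Ω} {Γ : Subgroup (MulAut E)}, Ess S E 2 Γ →
    Inv Γ (⊥ : Subgroup Ω) ∧ Inv Γ E ∧
    ∀ N : Subgroup Ω, Inv Γ N →
      Inv Γ (nx E N) ∧ N ≤ nx E N ∧ (∀ x, x ∈ nx E N ↔ x ∈ E ∧ x ^ 2 ∈ N ∧ ∀ r ∈ E, x * r * x⁻¹ * r⁻¹ ∈ N) ∧
      Inv Γ (cz E N) ∧
      ∀ M : Subgroup Ω, Inv Γ M → Inv Γ (comG N M) ∧ Inv Γ (N ⊓ M) ∧ Inv Γ (cz M N)

/-- (FF2) `p = 2`: `N ≤ M` are invariant, `M/N` is elementary abelian and central in `E/N`; `A ≤ N_S(E)` is elementary abelian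
modulo `E` and acts nontrivially on `M/N`. Then `|A : A ∩ E| ≤ |M : C_M(A mod N)|`, and in case of equality (`A` is an
offender) all involutions of `N_S(E)/E` lie in `AE/E` etc. -/
def StFF2 : Prop :=
  ∀ {Ω : Type u} [Group Ω] {S E : Subgroup Ω} {Γ : Subgroup (MulAut E)}, Ess S E 2 Γ →
    ∀ N M A : Subgroup Ω, Inv Γ N → Inv Γ M → N ≤ M → Com E M N → (∀ m ∈ M, m ^ 2 ∈ N) →
    A ≤ normalizerIn S E → Com A A E → (∀ x ∈ A, x ^ 2 ∈ E) → ¬ Com A M N →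
    E.relIndex A ≤ (cmod A M N).relIndex M ∧
    ((cmod A M N).relIndex M ≤ E.relIndex A →
      (∀ y ∈ normalizerIn S E, y ^ 2 ∈ E → y ∈ E ⊔ A) ∧
      (2 < E.relIndex A → normalizerIn S E = E ⊔ A ∧
        (∀ x ∈ normalizerIn S E, x ∉ E → ∀ m ∈ M, x * m * x⁻¹ * m⁻¹ ∈ N → m ∈ cmod A M N) ∧
        ∀ D : Subgroup Ω, Inv Γ D → N ≤ D → D ≤ M → Com A D N → ¬ Com A M D))

/-- (FFP) the same for the Frattini quotient -/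
def StFFP : Prop :=
  ∀ {Ω : Type u} [Group Ω] {S E : Subgroup Ω} {Γ : Subgroup (MulAut E)}, Ess S E 2 Γ →
    ∀ A : Subgroup Ω, A ≤ normalizerIn S E → Com A A E → (∀ x ∈ A, x ^ 2 ∈ E) → ¬ A ≤ E →
    E.relIndex A ≤ (cmod A E (Phi E)).relIndex E ∧ E.relIndex A ≤ (Phi E).relIndex (comG A E ⊔ Phi E) ∧
    ((cmod A E (Phi E)).relIndex E ≤ E.relIndex A → normalizerIn S E = E ⊔ A)

/-- the engine: helper802's `Eng` (phi, ch, l, cj, hull, …; proved by helper218 in `H218/TE`) and the lemmas above -/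
structure Eng2 : Prop where
  eng : Eng.{u}
  nx : StNx.{u}
  ff2 : StFF2.{u}
  ffp : StFFP.{u}

/-! ### The steps. `B0 = QA Z8 = {k = 0}`. -/

section
variable {K : Type u} [Field K] {σ : K →+* K} {U : Type v} [Group U]

/-- `B0 = {k = 0}` -/
def B0 (T : TF σ U) : Subgroup U := T.QA ⊔ T.Z8

/-- `Z6s = {t = k = p = v = 0}`, order `q⁸` -/
def Z6s (T : TF σ U) : Subgroup U := T.Z2 ⊔ T.X3 ⊔ T.X4 ⊔ T.X5 ⊔ T.X6 ⊔ T.X7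

end

/-- (INV) -/
def StInvol : Prop :=
  ∀ {K : Type u} [Field K] {σ : K →+* K} {m : ℕ}, HypK σ m → ∀ {U : Type v} [Group U] (T : TF σ U) (e : U),
    e ∉ T.QB → e ^ 2 = 1 → ∃ (g : U) (t : K), t ≠ 0 ∧ g * e * g⁻¹ = T.x1 t

/-- (A1) -/
def StA1 : Prop :=
  ∀ {K : Type u} [Field K] {σ : K →+* K} {m : ℕ}, HypK σ m → ∀ {U : Type v} [Group U] (T : TF σ U)
    {R : Subgroup U} {Γ : Subgroup (MulAut R)}, Ess (⊤ : Subgroup U) R 2 Γ → T.V ≤ R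

/-- (A2) -/
def StA2 : Prop :=
  ∀ {K : Type u} [Field K] {σ : K →+* K} {m : ℕ}, HypK σ m → ∀ {U : Type v} [Group U] (T : TF σ U)
    {R : Subgroup U} {Γ : Subgroup (MulAut R)}, Ess (⊤ : Subgroup U) R 2 Γ → T.V ≤ R → T.Y ≤ R

/-- (A3) -/
def StA3 : Prop :=
  ∀ {K : Type u} [Field K] {σ : K →+* K} {m : ℕ}, HypK σ m → ∀ {U : Type v} [Group U] (T : TF σ U)
    {R : Subgroup U} {Γ : Subgroup (MulAut R)}, Ess (⊤ : Subgroup U) R 2 Γ → T.Y ≤ R → ¬ R ≤ T.N3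

/-- (A4) -/
def StA4 : Prop :=
  ∀ {K : Type u} [Field K] {σ : K →+* K} {m : ℕ}, HypK σ m → ∀ {U : Type v} [Group U] (T : TF σ U)
    {R : Subgroup U} {Γ : Subgroup (MulAut R)}, Ess (⊤ : Subgroup U) R 2 Γ → T.Y ≤ R → ¬ R ≤ T.N3 → R ≤ T.QB → T.E4 ≤ R

/-- (A5a) the case `k = 0` -/
def StA5a : Prop :=
  ∀ {K : Type u} [Field K] {σ : K →+* K} {m : ℕ}, HypK σ m → ∀ {U : Type v} [Group U] (T : TF σ U)
    {R : Subgroup U} {Γ : Subgroup (MulAut R)}, Ess (⊤ : Subgroup U) R 2 Γ → ¬ R ≤ T.N3 → R ≤ T.QB → T.E4 ≤ R →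
    R ≤ B0 T → T.E ≤ R

/-- (A5b) the case `k ≠ 0` for some element, up to the last case (c) -/
def StA5b : Prop :=
  ∀ {K : Type u} [Field K] {σ : K →+* K} {m : ℕ}, HypK σ m → ∀ {U : Type v} [Group U] (T : TF σ U)
    {R : Subgroup U} {Γ : Subgroup (MulAut R)}, Ess (⊤ : Subgroup U) R 2 Γ → ¬ R ≤ T.N3 → R ≤ T.QB → T.E4 ≤ R →
    (∃ r ∈ R, r ∉ B0 T ∧ ∀ s, r * T.x5 s * r⁻¹ * (T.x5 s)⁻¹ ∈ T.Z6) → -- `r` has `k ≠ 0`, `p = 0`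
    T.E ≤ R ∨ (R ≤ T.N3 ⊔ T.X8 ∧ T.X4 ≤ R ∧ T.X7 ≤ R ∧ Inv Γ T.V ∧ ∃ x ∈ nx R T.V, x ∉ Z6s T)

/-- (A5c) the last case: `p = 0` on `R`, `V = Ω₁(Z(R))`, and some `x ∈ nx R V` has `v ≠ 0` -/
def StA5c : Prop :=
  ∀ {K : Type u} [Field K] {σ : K →+* K} {m : ℕ}, HypK σ m → ∀ {U : Type v} [Group U] (T : TF σ U)
    {R : Subgroup U} {Γ : Subgroup (MulAut R)}, Ess (⊤ : Subgroup U) R 2 Γ → ¬ R ≤ T.N3 → R ≤ T.N3 ⊔ T.X8 →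
    T.E4 ≤ R → T.X4 ≤ R → T.X7 ≤ R → Inv Γ T.V → (∃ x ∈ nx R T.V, x ∉ Z6s T) → T.E ≤ R

/-- (A6) -/
def StA6 : Prop :=
  ∀ {K : Type u} [Field K] {σ : K →+* K} {m : ℕ}, HypK σ m → ∀ {U : Type v} [Group U] (T : TF σ U)
    {R : Subgroup U} {Γ : Subgroup (MulAut R)}, Ess (⊤ : Subgroup U) R 2 Γ → ¬ R ≤ T.N3 → R ≤ T.QB → T.E ≤ R → T.X7 ≤ R

/-- (A7) -/
def StA7 : Prop :=
  ∀ {K : Type u} [Field K] {σ : K →+* K} {m : ℕ}, HypK σ m → ∀ {U : Type v} [Group U] (T : TF σ U)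
    {R : Subgroup U} {Γ : Subgroup (MulAut R)}, Ess (⊤ : Subgroup U) R 2 Γ → ¬ R ≤ T.N3 → R ≤ T.QB → T.E ≤ R → T.X7 ≤ R →
    T.X4 ≤ R

/-- (A8) -/
def StA8 : Prop :=
  ∀ {K : Type u} [Field K] {σ : K →+* K} {m : ℕ}, HypK σ m → ∀ {U : Type v} [Group U] (T : TF σ U)
    {R : Subgroup U} {Γ : Subgroup (MulAut R)}, Ess (⊤ : Subgroup U) R 2 Γ → ¬ R ≤ T.N3 → R ≤ T.QB → T.E ≤ R → T.X7 ≤ R →
    T.X4 ≤ R → T.X6 ≤ R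

/-- (A9) -/
def StA9 : Prop :=
  ∀ {K : Type u} [Field K] {σ : K →+* K} {m : ℕ}, HypK σ m → ∀ {U : Type v} [Group U] (T : TF σ U)
    {R : Subgroup U} {Γ : Subgroup (MulAut R)}, Ess (⊤ : Subgroup U) R 2 Γ → ¬ R ≤ T.N3 → R ≤ T.QB → Z6s T ≤ R → T.Z8 ≤ R

/-- (A10) -/
def StA10 : Prop :=
  ∀ {K : Type u} [Field K] {σ : K →+* K} {m : ℕ}, HypK σ m → ∀ {U : Type v} [Group U] (T : TF σ U)
    {R : Subgroup U} {Γ : Subgroup (MulAut R)}, Ess (⊤ : Subgroup U) R 2 Γ → ¬ R ≤ T.N3 → R ≤ T.QB → T.N3 ≤ R → R = T.QB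

/-- (B1) -/
def StB1 : Prop :=
  ∀ {K : Type u} [Field K] {σ : K →+* K} {m : ℕ}, HypK σ m → ∀ {U : Type v} [Group U] (T : TF σ U)
    {R : Subgroup U} {Γ : Subgroup (MulAut R)}, Ess (⊤ : Subgroup U) R 2 Γ → T.Y ≤ R → ¬ R ≤ T.QB →
    nx R ⊥ ≤ T.E ∧ nx R (nx R ⊥) ≤ T.QA ∧ T.E4 ≤ R

/-- (B2) -/
def StB2' : Prop :=
  ∀ {K : Type u} [Field K] {σ : K →+* K} {m : ℕ}, HypK σ m → ∀ {U : Type v} [Group U] (T : TF σ U)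
    {R : Subgroup U} {Γ : Subgroup (MulAut R)}, Ess (⊤ : Subgroup U) R 2 Γ → T.E4 ≤ R → nx R ⊥ ≤ T.E → ¬ R ≤ T.QB →
    R ≤ T.QA → R = T.QA

end Cfsg.Agent.H784.TF
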