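import Cfsg.Agent.H784.TF.Ess
import Cfsg.Agent.H752.TF.Co

/-!
# S5262, ESS, mixed case: exact statements. Paper proofs: `outputs/live/tools/plans/S5262_ess.md`, section MIXED.
-/

set_option autoImplicit false
set_option linter.dupNamespace false

namespace Cfsg.Agent.H784.TF

open Cfsg Cfsg.FusionSystem Cfsg.Agent.H756.PU Cfsg.Agent.H745.TF Cfsg.Agent.H802.TE Cfsg.Agent.H752.TF

universe u v

/-- what is known of an essential subgroup in the mixed case after B1 -/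
structure Mx {K : Type u} [Field K] {σ : K →+* K} {U : Type v} [Group U] (T : TF σ U) (R : Subgroup U)
    (Γ : Subgroup (MulAut R)) : Prop where
  ess : Ess (⊤ : Subgroup U) R 2 Γ
  nB : ¬ R ≤ T.QB
  nA : ¬ R ≤ T.QA
  e4 : T.E4 ≤ R
  v1 : nx R ⊥ ≤ T.E
  x2 : nx R (nx R ⊥) ≤ T.QA

/-- (β1) `k = 0` on `R` -/
def StMb1 : Prop :=
  ∀ {K : Type u} [Field K] {σ : K →+* K} {m : ℕ}, HypK σ m → ∀ {U : Type v} [Group U] (T : TF σ U)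
    {R : Subgroup U} {Γ : Subgroup (MulAut R)}, Mx T R Γ → R ≤ B0 T →
    T.E ≤ R ∧ nx R ⊥ ≤ T.Y ∧ (nx R ⊥ ≤ T.Z4 → T.D ≤ R)

/-- (β2) `k = 0` on `R` and `Ω₁Z(R) > Z4` is impossible -/
def StMb2 : Prop :=
  ∀ {K : Type u} [Field K] {σ : K →+* K} {m : ℕ}, HypK σ m → 1 ≤ m → ∀ {U : Type v} [Group U] (T : TF σ U)
    {R : Subgroup U} {Γ : Subgroup (MulAut R)}, Mx T R Γ → R ≤ B0 T → T.E ≤ R → nx R ⊥ ≤ T.Y → nx R ⊥ ≤ T.Z4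

/-- (α0) `k ≠ 0` for some element of `R` -/
def StMa0 : Prop :=
  ∀ {K : Type u} [Field K] {σ : K →+* K} {m : ℕ}, HypK σ m → ∀ {U : Type v} [Group U] (T : TF σ U)
    {R : Subgroup U} {Γ : Subgroup (MulAut R)}, Mx T R Γ → ¬ R ≤ B0 T →
    nx R ⊥ ≤ T.Z4 ∧ nx R T.Z4 ≤ T.E ⊔ T.X7

/-- (α1) the pairs `(σ t, k)` of the elements of `R` are not all proportional -/
def StMa1 : Prop :=
  ∀ {K : Type u} [Field K] {σ : K →+* K} {m : ℕ}, HypK σ m → ∀ {U : Type v} [Group U] (T : TF σ U)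
    {R : Subgroup U} {Γ : Subgroup (MulAut R)}, Mx T R Γ → ¬ R ≤ B0 T → nx R ⊥ ≤ T.Z4 →
    (∃ r ∈ R, ∃ s ∈ R, (co T r).a8 * σ (co T s).a1 ≠ (co T s).a8 * σ (co T r).a1) → T.D ≤ R

/-- (α2) all proportional: `E ≤ R` -/
def StMa2 : Prop :=
  ∀ {K : Type u} [Field K] {σ : K →+* K} {m : ℕ}, HypK σ m → 1 ≤ m → ∀ {U : Type v} [Group U] (T : TF σ U)
    {R : Subgroup U} {Γ : Subgroup (MulAut R)}, Mx T R Γ → nx R ⊥ ≤ T.Z4 →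
    ∀ κ : K, κ ≠ 0 → (∀ r ∈ R, (co T r).a8 = κ * σ (co T r).a1) → T.E ≤ R

/-- (α3) `V` is invariant -/
def StMa3 : Prop :=
  ∀ {K : Type u} [Field K] {σ : K →+* K} {m : ℕ}, HypK σ m → 1 ≤ m → ∀ {U : Type v} [Group U] (T : TF σ U)
    {R : Subgroup U} {Γ : Subgroup (MulAut R)}, Mx T R Γ → nx R ⊥ ≤ T.Z4 →
    ∀ κ : K, κ ≠ 0 → (∀ r ∈ R, (co T r).a8 = κ * σ (co T r).a1) → T.E ≤ R → Inv Γ T.V

/-- (α4) `D ≤ R` -/
def StMa4 : Prop :=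
  ∀ {K : Type u} [Field K] {σ : K →+* K} {m : ℕ}, HypK σ m → 1 ≤ m → ∀ {U : Type v} [Group U] (T : TF σ U)
    {R : Subgroup U} {Γ : Subgroup (MulAut R)}, Mx T R Γ → nx R ⊥ ≤ T.Z4 →
    ∀ κ : K, κ ≠ 0 → (∀ r ∈ R, (co T r).a8 = κ * σ (co T r).a1) → T.E ≤ R → Inv Γ T.V → T.D ≤ R

/-- all together (`q ≥ 8`); `Z4 = nx R ⊥` is then invariant and `StMix` applies -/
def StMx : Prop :=
  ∀ {K : Type u} [Field K] {σ : K →+* K} {m : ℕ}, HypK σ m → 1 ≤ m → ∀ {U : Type v} [Group U] (T : TF σ U)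
    {R : Subgroup U} {Γ : Subgroup (MulAut R)}, Mx T R Γ → Inv Γ T.Z4 ∧ T.D ≤ R

end Cfsg.Agent.H784.TF
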